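/-
A finite type algebra over a reduced ring with finitely many minimal primes which is isomorphic
at a prime is a localization away from an element near that prime.
-/
import Mathlib.RingTheory.FiniteType
import Mathlib.RingTheory.Localization.Away.Basic
import Mathlib.RingTheory.Localization.AtPrime.Basic
import Mathlib.RingTheory.Ideal.MinimalPrime.Basic
import Mathlib.RingTheory.Nilpotent.Lemmas
import Mathlib.Tactic.LinearCombination
import Mathlib.Tactic.Ring

set_option autoImplicit false
universe u v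

namespace Groth.Agent.LocIso

variable {A : Type u} [CommRing A]

/-- The kernel of localization at a prime is killed by one element outside the prime. -/
theorem exists_notMem_forall_mul_eq_zero [IsReduced A] (hA : (minimalPrimes A).Finite) (p : Ideal A) [p.IsPrime] :
    ∃ s ∉ p, ∀ a, algebraMap A (Localization.AtPrime p) a = 0 → s * a = 0 := by
  classical
  have hex : ∀ r : Ideal A, ∃ e, e ∉ p ∧ (¬ r ≤ p → e ∈ r) := fun r => by
    by_cases h : r ≤ p
    · exact ⟨1, fun h1 => (‹p.IsPrime›).ne_top ((Ideal.eq_top_iff_one p).mpr h1), fun h2 => absurd h h2⟩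
    · obtain ⟨e, he, he'⟩ := SetLike.not_le_iff_exists.mp h
      exact ⟨e, he', fun _ => he⟩
  choose e he he' using hex
  refine ⟨∏ r ∈ hA.toFinset, e r, fun h => ?_, fun a ha => ?_⟩
  · obtain ⟨r, -, hr⟩ := (Ideal.IsPrime.prod_mem_iff.mp h)
    exact he r hr
  · obtain ⟨⟨m, hm⟩, hma⟩ := (IsLocalization.map_eq_zero_iff p.primeCompl _ a).mp ha
    have h0 : (∏ r ∈ hA.toFinset, e r) * a ∈ sInf (⊥ : Ideal A).minimalPrimes := by
      refine Ideal.mem_sInf.mpr fun {r} hr => ?_
      by_cases h : r ≤ p
      · refine r.mul_mem_left _ ((hr.1.1.mem_or_mem ?_).resolve_left fun h' => hm (h h'))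
        rw [show m * a = 0 from hma]
        exact r.zero_mem
      · exact r.mul_mem_right _ (Ideal.mem_of_dvd r (Finset.dvd_prod_of_mem e (hA.mem_toFinset.mpr hr)) (he' r h))
    rw [Ideal.sInf_minimalPrimes] at h0
    obtain ⟨n, hn⟩ := h0
    exact IsReduced.eq_zero _ ⟨n, hn⟩

/-- A finite type algebra which is isomorphic at a prime is a localization away near it. -/
theorem exists_isLocalization_away [IsReduced A] (hA : (minimalPrimes A).Finite) {B : Type v} [CommRing B]
    [Algebra A B] [Algebra.FiniteType A B] (q : Ideal B) [q.IsPrime]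
    (h : Function.Bijective (Localization.localRingHom (q.comap (algebraMap A B)) q (algebraMap A B) rfl)) :
    ∃ g ∉ q, ∃ c : A, IsLocalization.Away c (Localization.Away g) := by
  classical
  set p := q.comap (algebraMap A B)
  set θ := Localization.localRingHom p q (algebraMap A B) rfl
  obtain ⟨s, hs, hker⟩ := exists_notMem_forall_mul_eq_zero hA p
  obtain ⟨t, ht⟩ := Algebra.FiniteType.out (R := A) (A := B)
  have hgen : ∀ b : B, ∃ a d, d ∉ p ∧ ∃ g ∉ q, g * (algebraMap A B d * b - algebraMap A B a) = 0 := by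
    intro b
    obtain ⟨w, hw⟩ := h.2 (algebraMap B (Localization.AtPrime q) b)
    obtain ⟨a, ⟨d, hd⟩, rfl⟩ := IsLocalization.exists_mk'_eq p.primeCompl w
    rw [Localization.localRingHom_mk', IsLocalization.mk'_eq_iff_eq_mul, ← map_mul] at hw
    obtain ⟨⟨g, hg⟩, hge⟩ := (IsLocalization.eq_iff_exists q.primeCompl _).mp hw
    exact ⟨a, d, hd, g, hg, by rw [mul_sub, sub_eq_zero]; exact ((hge.trans (by rw [mul_comm b])).symm)⟩
  choose a d hd g hg hga using hgen
  set T := s * ∏ i ∈ t, d i with hT
  haveI hpp : p.IsPrime := Ideal.comap_isPrime _ _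
  have hTp : T ∉ p := fun h' => ((hpp.mem_or_mem h').elim hs fun h'' => by
    obtain ⟨i, -, hi⟩ := Ideal.IsPrime.prod_mem_iff.mp h''
    exact hd i hi)
  set G := ∏ i ∈ t, g i with hG
  have hGq : G ∉ q := fun h' => by
    obtain ⟨i, -, hi⟩ := Ideal.IsPrime.prod_mem_iff.mp h'
    exact hg i hi
  have hall : ∀ b : B, ∃ (n : ℕ) (α : A), G * (algebraMap A B T ^ n * b - algebraMap A B α) = 0 := by
    intro b
    have hb : b ∈ Algebra.adjoin A (t : Set B) := ht ▸ Algebra.mem_top
    induction hb using Algebra.adjoin_induction with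
    | mem i hi =>
      refine ⟨1, s * (∏ j ∈ t.erase i, d j) * a i, ?_⟩
      rw [hG, ← Finset.prod_erase_mul t g hi, hT, ← Finset.prod_erase_mul t d hi, pow_one]
      simp only [map_mul]
      calc _ = (∏ j ∈ t.erase i, g j) * algebraMap A B s * algebraMap A B (∏ j ∈ t.erase i, d j) *
            (g i * (algebraMap A B (d i) * i - algebraMap A B (a i))) := by ring
        _ = 0 := by rw [hga, mul_zero]
    | algebraMap r => exact ⟨0, r, by rw [pow_zero, one_mul, sub_self, mul_zero]⟩
    | add x y _ _ hx hy =>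
      obtain ⟨n, α, hα⟩ := hx
      obtain ⟨m, β, hβ⟩ := hy
      refine ⟨n + m, α * T ^ m + β * T ^ n, ?_⟩
      simp only [map_add, map_mul, map_pow]
      calc _ = algebraMap A B T ^ m * (G * (algebraMap A B T ^ n * x - algebraMap A B α)) +
            algebraMap A B T ^ n * (G * (algebraMap A B T ^ m * y - algebraMap A B β)) := by ring
        _ = 0 := by rw [hα, hβ, mul_zero, mul_zero, add_zero]
    | mul x y _ _ hx hy =>
      obtain ⟨n, α, hα⟩ := hx
      obtain ⟨m, β, hβ⟩ := hy
      refine ⟨n + m, α * β, ?_⟩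
      simp only [map_mul]
      calc _ = algebraMap A B T ^ m * y * (G * (algebraMap A B T ^ n * x - algebraMap A B α)) +
            algebraMap A B α * (G * (algebraMap A B T ^ m * y - algebraMap A B β)) := by ring
        _ = 0 := by rw [hα, hβ, mul_zero, mul_zero, add_zero]
  obtain ⟨k, aG, haG⟩ := hall G
  refine ⟨G * algebraMap A B T, fun h' => (Ideal.IsPrime.mem_or_mem ‹_› h').elim hGq hTp, T * aG, ?_⟩
  suffices hs' : ∀ (L : Type v) [CommRing L] [Algebra A L] [Algebra B L] [IsScalarTower A B L]
      [IsLocalization.Away (G * algebraMap A B T) L], IsLocalization.Away (T * aG) L from hs' _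
  intro L _ _ _ _ _
  have hu : IsUnit (algebraMap B L G) ∧ IsUnit (algebraMap A L T) := by
    have := IsLocalization.Away.algebraMap_isUnit (S := L) (G * algebraMap A B T)
    rw [map_mul, IsUnit.mul_iff] at this
    exact ⟨this.1, by rw [IsScalarTower.algebraMap_apply A B L]; exact this.2⟩
  have hrel : ∀ b n α, G * (algebraMap A B T ^ n * b - algebraMap A B α) = 0 →
      algebraMap A L T ^ n * algebraMap B L b = algebraMap A L α := fun b n α hb => by
    have := congrArg (algebraMap B L) hb
    rw [map_mul, map_zero, hu.1.mul_right_eq_zero, map_sub, sub_eq_zero, map_mul, map_pow] at this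
    rwa [IsScalarTower.algebraMap_apply A B L, IsScalarTower.algebraMap_apply A B L]
  have haGu : IsUnit (algebraMap A L aG) := by
    rw [← hrel G k aG haG]
    exact (hu.2.pow k).mul hu.1
  refine (isLocalization_iff _ _).mpr ⟨?_, ?_, ?_⟩
  · rintro ⟨_, n, rfl⟩
    show IsUnit (algebraMap A L ((T * aG) ^ n))
    rw [map_pow, map_mul]
    exact (hu.2.mul haGu).pow n
  · intro z
    let P : L → Prop := fun z => ∃ (N : ℕ) (α : A), z * algebraMap A L ((T * aG) ^ N) = algebraMap A L α
    have hmul : ∀ x y, P x → P y → P (x * y) := by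
      rintro x y ⟨N, α, hα⟩ ⟨M, β, hβ⟩
      refine ⟨N + M, α * β, ?_⟩
      rw [pow_add, map_mul, map_mul, ← hα, ← hβ]
      ring
    have hB : ∀ b, P (algebraMap B L b) := fun b => by
      obtain ⟨n, α, hα⟩ := hall b
      refine ⟨n, α * aG ^ n, ?_⟩
      rw [mul_pow, map_mul, map_mul, ← hrel b n α hα, map_pow]
      ring
    obtain ⟨N₀, hN₀⟩ : ∃ b : B, ∃ n : ℕ, z * algebraMap B L ((G * algebraMap A B T) ^ n) = algebraMap B L b := by
      obtain ⟨⟨b, _, n, rfl⟩, hb⟩ := IsLocalization.surj (Submonoid.powers (G * algebraMap A B T)) z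
      exact ⟨b, n, hb⟩
    obtain ⟨n, hn⟩ := hN₀
    obtain ⟨v, hv⟩ := (hu.1.mul hu.2).exists_right_inv
    have hvP : P v := by
      refine ⟨1, T ^ k, ?_⟩
      rw [pow_one, map_mul, map_pow, ← hrel G k aG haG]
      linear_combination (algebraMap A L T ^ k) * hv
    have hpow : ∀ m, P (v ^ m) := fun m => by
      induction m with
      | zero => exact ⟨0, 1, by simp⟩
      | succ m ih => rw [pow_succ]; exact hmul _ _ ih hvP
    have hz : z = algebraMap B L N₀ * v ^ n := by
      rw [← hn, map_pow, map_mul, mul_assoc, ← mul_pow, ← IsScalarTower.algebraMap_apply A B L, hv, one_pow, mul_one]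
    obtain ⟨N, α, hα⟩ : P z := hz ▸ hmul _ _ (hB N₀) (hpow n)
    exact ⟨(α, ⟨_, N, rfl⟩), hα⟩
  · intro α β hαβ
    rw [IsScalarTower.algebraMap_apply A B L, IsScalarTower.algebraMap_apply A B L] at hαβ
    obtain ⟨⟨_, n, rfl⟩, hn⟩ := (IsLocalization.eq_iff_exists (Submonoid.powers (G * algebraMap A B T)) L).mp hαβ
    have h1 : algebraMap B (Localization.AtPrime q) (algebraMap A B α) =
        algebraMap B (Localization.AtPrime q) (algebraMap A B β) :=
      (IsLocalization.eq_iff_exists q.primeCompl _).mpr ⟨⟨(G * algebraMap A B T) ^ n,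
        fun h' => (Ideal.IsPrime.mem_or_mem ‹_› (Ideal.IsPrime.mem_of_pow_mem ‹_› n h')).elim hGq hTp⟩, hn⟩
    rw [← Localization.localRingHom_to_map p q (algebraMap A B) rfl, ← Localization.localRingHom_to_map p q (algebraMap A B) rfl] at h1
    have h2 := hker (α - β) (by rw [map_sub, h.1 h1, sub_self])
    refine ⟨⟨_, 1, rfl⟩, ?_⟩
    show (T * aG) ^ 1 * α = (T * aG) ^ 1 * β
    rw [pow_one, hT, ← sub_eq_zero]
    calc _ = (∏ i ∈ t, d i) * aG * (s * (α - β)) := by ring
      _ = 0 := by rw [h2, mul_zero]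

end Groth.Agent.LocIso
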